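import Mathlib.AlgebraicGeometry.ZariskisMainTheorem
import Mathlib.AlgebraicGeometry.Morphisms.UniversallyInjective
import Mathlib.AlgebraicGeometry.QuasiAffine
import Groth.Prelude.Def_FlatCA

/-!
# Monomorphisms locally of finite type with sections over a nil limit
-/

universe u

open AlgebraicGeometry CategoryTheory TopologicalSpace

namespace GrothLib.MonoNil6

section Limit

variable {A : Type u} [CommRing A] {A' : ℕ → Type u} [∀ n, CommRing (A' n)]
  {φ : ∀ n, A' (n + 1) →+* A' n} {π : ∀ n, A →+* A' n}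

theorem surjective_zero (hlim : FlatCA.IsRingLimit A A' φ π)
    (hsurj : ∀ n, Function.Surjective (φ n)) : Function.Surjective (π 0) := by
  intro b
  choose lift hlift using hsurj
  let x : ∀ n, A' n := fun n => Nat.rec (motive := fun n => A' n) b (fun k y => lift k y) n
  obtain ⟨a, ha⟩ := hlim.2.2 x (fun n => hlift n (x n))
  exact ⟨a, ha 0⟩

theorem isUnit_of_isUnit_zero (hlim : FlatCA.IsRingLimit A A' φ π)
    (hsurj : ∀ n, Function.Surjective (φ n)) (hnil : ∀ n, ∀ x ∈ RingHom.ker (φ n), IsNilpotent x)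
    {a : A} (ha : IsUnit (π 0 a)) : IsUnit a := by
  have hu : ∀ n, IsUnit (π n a) := by
    intro n
    induction n with
    | zero => exact ha
    | succ n ih =>
      rw [← hlim.1 n, RingHom.comp_apply] at ih
      obtain ⟨u, hu⟩ := ih
      obtain ⟨v, hv⟩ := hsurj n ↑u⁻¹
      have h1 : IsUnit (π (n + 1) a * v) := by
        have hk : 1 - π (n + 1) a * v ∈ RingHom.ker (φ n) := by
          rw [RingHom.mem_ker, map_sub, map_one, map_mul, hv, ← hu, Units.mul_inv, sub_self]
        simpa using (hnil n _ hk).isUnit_one_sub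
      exact isUnit_of_mul_isUnit_left h1
  have hx : ∀ n, φ n ↑((hu (n + 1)).unit⁻¹) = ↑((hu n).unit⁻¹) := by
    intro n
    refine (hu n).mul_right_injective ?_
    dsimp only
    rw [IsUnit.mul_val_inv, ← hlim.1 n, RingHom.comp_apply, ← map_mul, IsUnit.mul_val_inv,
      map_one]
  obtain ⟨b, hb⟩ := hlim.2.2 (fun n => ↑((hu n).unit⁻¹)) hx
  refine IsUnit.of_mul_eq_one b (hlim.2.1 _ _ fun n => ?_)
  rw [map_mul, hb n, map_one, IsUnit.mul_val_inv]

theorem ker_zero_le_maximal (hlim : FlatCA.IsRingLimit A A' φ π)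
    (hsurj : ∀ n, Function.Surjective (φ n)) (hnil : ∀ n, ∀ x ∈ RingHom.ker (φ n), IsNilpotent x)
    (m : Ideal A) [m.IsMaximal] : RingHom.ker (π 0) ≤ m := by
  intro a ha
  by_contra ham
  obtain ⟨c, i, hi, hci⟩ := (inferInstance : m.IsMaximal).exists_inv ham
  have h1 : 1 - a * c ∈ m := by
    rwa [← hci, mul_comm a c, add_sub_cancel_left]
  have h2 : IsUnit (1 - a * c) := isUnit_of_isUnit_zero hlim hsurj hnil (by
    rw [map_sub, map_one, map_mul, RingHom.mem_ker.mp ha, zero_mul, sub_zero]; exact isUnit_one)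
  exact (inferInstance : m.IsMaximal).ne_top (Ideal.eq_top_of_isUnit_mem _ h1 h2)

end Limit

theorem exists_compact_opens {X : Scheme.{u}} {K : Set X} (hK : IsCompact K) :
    ∃ U : X.Opens, K ⊆ U ∧ IsCompact (U : Set X) := by
  choose V hV using fun x : X => exists_isAffineOpen_mem_and_subset (X := X) (x := x) (U := ⊤) trivial
  obtain ⟨t, ht⟩ := hK.elim_finite_subcover (fun x => (V x : Set X)) (fun x => (V x).isOpen)
    (fun x _ => Set.mem_iUnion.mpr ⟨x, (hV x).2.1⟩)
  refine ⟨⨆ x ∈ t, V x, ?_, ?_⟩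
  · simpa [Opens.coe_iSup] using ht
  · simpa [Opens.coe_iSup] using t.isCompact_biUnion fun x _ => (hV x).1.isCompact

variable {A : Type u} [CommRing A] {A' : ℕ → Type u} [∀ n, CommRing (A' n)]
  {φ : ∀ n, A' (n + 1) →+* A' n} {π : ∀ n, A →+* A' n}

theorem isIso_of_quasiAffine (hlim : FlatCA.IsRingLimit A A' φ π)
    (hsurj : ∀ n, Function.Surjective (φ n)) (hnil : ∀ n, ∀ x ∈ RingHom.ker (φ n), IsNilpotent x)
    {T : Scheme.{u}} [T.IsQuasiAffine] (h : T ⟶ Spec (CommRingCat.of A)) [Mono h]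
    (g : ∀ n, Spec (CommRingCat.of (A' n)) ⟶ T)
    (hg : ∀ n, g n ≫ h = Spec.map (CommRingCat.ofHom (π n))) :
    ∃ s, s ≫ h = 𝟙 _ := by
  set C := Γ(T, ⊤)
  set j : T ⟶ Spec C := T.toSpecΓ
  let c : CommRingCat.of A ⟶ C := (Scheme.ΓSpecIso _).inv ≫ h.appTop
  have hjc : j ≫ Spec.map c = h := by
    simp only [c, j, C, Spec.map_comp]
    rw [← Scheme.toSpecΓ_naturality_assoc, ← SpecMap_ΓSpecIso_hom, ← Spec.map_comp,
      Iso.inv_hom_id, Spec.map_id, Category.comp_id]
  choose γ hγ using fun n => Spec.map_surjective (g n ≫ j)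
  have hφg : ∀ n, Spec.map (CommRingCat.ofHom (φ n)) ≫ g (n + 1) = g n := by
    intro n
    rw [← cancel_mono h, Category.assoc, hg, hg, ← Spec.map_comp, ← CommRingCat.ofHom_comp,
      hlim.1 n]
  have hγc : ∀ n (x : C), φ n ((γ (n + 1)).hom x) = (γ n).hom x := by
    intro n x
    have : γ (n + 1) ≫ CommRingCat.ofHom (φ n) = γ n := by
      apply Spec.map_injective
      rw [Spec.map_comp, hγ, hγ, reassoc_of% (hφg n)]
    exact congr($(this).hom x)
  have hcπ : ∀ n (a : A), (γ n).hom (c.hom a) = π n a := by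
    intro n a
    have : c ≫ γ n = CommRingCat.ofHom (π n) := by
      apply Spec.map_injective
      rw [Spec.map_comp, hγ, Category.assoc, hjc, hg]
    exact congr($(this).hom a)
  choose G hG using fun x : C => hlim.2.2 (fun n => (γ n).hom x) (fun n => hγc n x)
  let Γ' : C →+* A :=
    { toFun := G
      map_one' := hlim.2.1 _ _ fun n => by simp [hG]
      map_mul' := fun x y => hlim.2.1 _ _ fun n => by simp [hG]
      map_zero' := hlim.2.1 _ _ fun n => by simp [hG]
      map_add' := fun x y => hlim.2.1 _ _ fun n => by simp [hG] }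
  let e : Spec (CommRingCat.of A) ⟶ Spec C := Spec.map (CommRingCat.ofHom Γ')
  have hπ0 : Spec.map (CommRingCat.ofHom (π 0)) ≫ e = g 0 ≫ j := by
    rw [← hγ 0, ← Spec.map_comp]
    congr 1
    ext x
    exact hG x 0
  have hrange : Set.range e ⊆ Set.range j := by
    rintro _ ⟨p, rfl⟩
    obtain ⟨m, hm, hpm⟩ := p.asIdeal.exists_le_maximal p.isPrime.ne_top
    let q : PrimeSpectrum A := ⟨m, hm.isPrime⟩
    have hq : q ∈ Set.range (Spec.map (CommRingCat.ofHom (π 0))) := by
      change q ∈ Set.range (PrimeSpectrum.comap (π 0))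
      rw [range_comap_of_surjective _ _ (surjective_zero hlim hsurj)]
      exact ker_zero_le_maximal hlim hsurj hnil m
    obtain ⟨q0, hq0⟩ := hq
    have hqj : e q ∈ Set.range j := by
      refine ⟨g 0 q0, ?_⟩
      rw [← hq0, ← Scheme.Hom.comp_apply, ← Scheme.Hom.comp_apply, hπ0]
    have hpq : p ⤳ q := (PrimeSpectrum.le_iff_specializes p q).mp hpm
    exact j.isOpenEmbedding.isOpen_range.stableUnderGeneralization
      (hpq.map e.continuous) hqj
  refine ⟨IsOpenImmersion.lift j e hrange, ?_⟩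
  rw [← hjc, IsOpenImmersion.lift_fac_assoc, ← Spec.map_comp, ← Spec.map_id]
  congr 1
  ext a
  exact hlim.2.1 _ _ fun n => by
    simpa [Γ', hG] using hcπ n a

theorem isIso_of_sections (hlim : FlatCA.IsRingLimit A A' φ π)
    (hsurj : ∀ n, Function.Surjective (φ n)) (hnil : ∀ n, ∀ x ∈ RingHom.ker (φ n), IsNilpotent x)
    {T : Scheme.{u}} (h : T ⟶ Spec (CommRingCat.of A)) [Mono h] [LocallyOfFiniteType h]
    (hsec : ∀ n, ∃ g : Spec (CommRingCat.of (A' n)) ⟶ T,
      g ≫ h = Spec.map (CommRingCat.ofHom (π n))) : IsIso h := by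
  choose g hg using hsec
  have hφg : ∀ n, Spec.map (CommRingCat.ofHom (φ n)) ≫ g (n + 1) = g n := by
    intro n
    rw [← cancel_mono h, Category.assoc, hg, hg, ← Spec.map_comp, ← CommRingCat.ofHom_comp,
      hlim.1 n]
  obtain ⟨U, hU, hUc⟩ := exists_compact_opens (isCompact_range (g 0).continuous)
  have hgU : ∀ n, Set.range (g n) ⊆ Set.range U.ι := by
    intro n
    rw [Scheme.Opens.range_ι]
    induction n with
    | zero => exact hU
    | succ n ih =>
      rintro _ ⟨y, rfl⟩
      have hs : Function.Surjective (Spec.map (CommRingCat.ofHom (φ n))) := by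
        intro z
        have : z ∈ Set.range (PrimeSpectrum.comap (φ n)) := by
          rw [range_comap_of_surjective _ _ (hsurj n)]
          exact fun x hx => nilradical_le_prime z.asIdeal (mem_nilradical.mpr (hnil n x hx))
        exact this
      obtain ⟨z, rfl⟩ := hs y
      rw [← Scheme.Hom.comp_apply, hφg n]
      exact ih ⟨z, rfl⟩
  have : CompactSpace (U : Scheme.{u}) := isCompact_iff_compactSpace.mp hUc
  set h' : (U : Scheme.{u}) ⟶ _ := U.ι ≫ h
  have : Scheme.IsQuasiAffine (U : Scheme.{u}) := by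
    have : QuasiCompact h' := quasiCompact_of_compactSpace h'
    have : IsAffine h'.normalization := isAffine_of_isAffineHom h'.fromNormalization
    exact .of_isImmersion h'.toNormalization
  obtain ⟨s, hs⟩ := isIso_of_quasiAffine hlim hsurj hnil h'
    (fun n => IsOpenImmersion.lift U.ι (g n) (hgU n))
    (fun n => by rw [IsOpenImmersion.lift_fac_assoc, hg])
  have : IsSplitEpi h := ⟨⟨⟨s ≫ U.ι, by rw [Category.assoc]; exact hs⟩⟩⟩
  exact isIso_of_mono_of_isSplitEpi h

end GrothLib.MonoNil6
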